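import Cfsg.Agent.Lib.OreLevi.OrthMinus
import Cfsg.Agent.Lib.OreLevi.OrthParam
import Cfsg.Agent.Lib.OreLevi.OrthLarge
import Cfsg.Agent.Lib.OreSmall.Basic

/-!
Every nonscalar determinant one matrix of size three over the field with two elements is `s z s⁻¹ z⁻¹` or
`s z sᵀ z⁻¹`, with `s` killed by `X³ - X - 1` and square determinants.
-/

set_option autoImplicit false
set_option linter.unusedSectionVars false

namespace CfsgLib.OreSmallTwo

open Matrix Polynomial CfsgLib.PSLCover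

local notation "𝔽₂" => ZMod 2

section General

variable {F : Type*} [Field F]

/-- The certified property. -/
def Fac2 (A : Matrix (Fin 3) (Fin 3) F) : Prop :=
  ∃ s z : GL (Fin 3) F, IsSquare (s : Matrix (Fin 3) (Fin 3) F).det ∧ IsSquare (z : Matrix (Fin 3) (Fin 3) F).det ∧
    aeval (s : Matrix (Fin 3) (Fin 3) F) (X ^ 3 - X - 1 : F[X]) = 0 ∧
    (A = (s : Matrix (Fin 3) (Fin 3) F) * z * (s⁻¹ : GL (Fin 3) F) * (z⁻¹ : GL (Fin 3) F) ∨
      A = (s : Matrix (Fin 3) (Fin 3) F) * z * (s : Matrix (Fin 3) (Fin 3) F)ᵀ * (z⁻¹ : GL (Fin 3) F))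

theorem aeval_cubic {s : Matrix (Fin 3) (Fin 3) F} (h : s * s * s - s - 1 = 0) :
    aeval s (X ^ 3 - X - 1 : F[X]) = 0 := by
  rw [map_sub, map_sub, map_pow, aeval_X, map_one, pow_succ, pow_two]
  exact h

theorem fac2_inv {A : Matrix (Fin 3) (Fin 3) F} (s z : GL (Fin 3) F)
    (e : A * (z : Matrix (Fin 3) (Fin 3) F) * s = (s : Matrix (Fin 3) (Fin 3) F) * z)
    (hP : (s : Matrix (Fin 3) (Fin 3) F) * s * s - (s : Matrix (Fin 3) (Fin 3) F) - 1 = 0)
    (hs : (s : Matrix (Fin 3) (Fin 3) F).det = 1) (hz : (z : Matrix (Fin 3) (Fin 3) F).det = 1) : Fac2 A := by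
  refine ⟨s, z, hs ▸ IsSquare.one, hz ▸ IsSquare.one, aeval_cubic hP, Or.inl ?_⟩
  rw [← e]
  simp only [Matrix.mul_assoc]
  rw [← Matrix.mul_assoc (s : Matrix (Fin 3) (Fin 3) F), ← Units.val_mul, mul_inv_cancel, Units.val_one,
    Matrix.one_mul, ← Units.val_mul, mul_inv_cancel, Units.val_one, Matrix.mul_one]

theorem fac2_tr {A : Matrix (Fin 3) (Fin 3) F} (s z : GL (Fin 3) F)
    (e : A * (z : Matrix (Fin 3) (Fin 3) F) = (s : Matrix (Fin 3) (Fin 3) F) * z * (s : Matrix (Fin 3) (Fin 3) F)ᵀ)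
    (hP : (s : Matrix (Fin 3) (Fin 3) F) * s * s - (s : Matrix (Fin 3) (Fin 3) F) - 1 = 0)
    (hs : (s : Matrix (Fin 3) (Fin 3) F).det = 1) (hz : (z : Matrix (Fin 3) (Fin 3) F).det = 1) : Fac2 A := by
  refine ⟨s, z, hs ▸ IsSquare.one, hz ▸ IsSquare.one, aeval_cubic hP, Or.inr ?_⟩
  rw [← e, Matrix.mul_assoc, ← Units.val_mul, mul_inv_cancel, Units.val_one, Matrix.mul_one]

theorem Fac2.conj {A : Matrix (Fin 3) (Fin 3) F} (c : GL (Fin 3) F) (h : Fac2 A) :
    Fac2 ((c : Matrix (Fin 3) (Fin 3) F) * A * ((c⁻¹ : GL (Fin 3) F) : Matrix (Fin 3) (Fin 3) F)) := by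
  obtain ⟨s, z, hs, hz, hP, hA⟩ := h
  have hdet : ((c * s * c⁻¹ : GL (Fin 3) F) : Matrix (Fin 3) (Fin 3) F).det = (s : Matrix (Fin 3) (Fin 3) F).det := by
    rw [Units.val_mul, Units.val_mul, Matrix.det_units_conj]
  rcases hA with hA | hA
  · refine ⟨c * s * c⁻¹, c * z * c⁻¹, hdet ▸ hs, ?_, CfsgLib.OreSmall.aeval_conj_zero c s hP, Or.inl ?_⟩
    · rw [Units.val_mul, Units.val_mul, Matrix.det_units_conj]; exact hz
    · simp only [hA, ← Units.val_mul]; congr 1; group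
  · let cT : GL (Fin 3) F := ⟨(c : Matrix (Fin 3) (Fin 3) F)ᵀ, ((c⁻¹ : GL (Fin 3) F) : Matrix (Fin 3) (Fin 3) F)ᵀ,
      by rw [← transpose_mul, ← Units.val_mul, inv_mul_cancel, Units.val_one, transpose_one],
      by rw [← transpose_mul, ← Units.val_mul, mul_inv_cancel, Units.val_one, transpose_one]⟩
    let sT : GL (Fin 3) F := ⟨(s : Matrix (Fin 3) (Fin 3) F)ᵀ, ((s⁻¹ : GL (Fin 3) F) : Matrix (Fin 3) (Fin 3) F)ᵀ,
      by rw [← transpose_mul, ← Units.val_mul, inv_mul_cancel, Units.val_one, transpose_one],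
      by rw [← transpose_mul, ← Units.val_mul, mul_inv_cancel, Units.val_one, transpose_one]⟩
    refine ⟨c * s * c⁻¹, c * z * cT, hdet ▸ hs, ?_, CfsgLib.OreSmall.aeval_conj_zero c s hP, Or.inr ?_⟩
    · rw [Units.val_mul, Units.val_mul, Matrix.det_mul, Matrix.det_mul,
        show (cT : Matrix (Fin 3) (Fin 3) F).det = (c : Matrix (Fin 3) (Fin 3) F).det from det_transpose _]
      obtain ⟨w, hw⟩ := hz
      exact ⟨(c : Matrix (Fin 3) (Fin 3) F).det * w, by rw [hw]; ring⟩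
    · have e1 : ((c * s * c⁻¹ : GL (Fin 3) F) : Matrix (Fin 3) (Fin 3) F)ᵀ =
          ((cT⁻¹ * sT * cT : GL (Fin 3) F) : Matrix (Fin 3) (Fin 3) F) := by
        simp only [Units.val_mul, transpose_mul, cT, sT, Units.inv_mk, Matrix.mul_assoc]
      rw [e1, hA, show (s : Matrix (Fin 3) (Fin 3) F)ᵀ = (sT : Matrix (Fin 3) (Fin 3) F) from rfl]
      simp only [← Units.val_mul]
      congr 1
      group

theorem Fac2.of_glSimE {A B : Matrix (Fin 3) (Fin 3) F} (h : GLSimE A B) (hA : Fac2 A) : Fac2 B := by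
  obtain ⟨e, M, hM, he⟩ := h
  have hr : Fac2 (A.reindex e e) := by
    obtain ⟨s, z, hs, hz, hP, hA'⟩ := hA
    let r : Matrix (Fin 3) (Fin 3) F ≃ₐ[F] Matrix (Fin 3) (Fin 3) F := Matrix.reindexAlgEquiv F F e
    let u : GL (Fin 3) F →* GL (Fin 3) F := Units.map r.toRingEquiv.toRingHom.toMonoidHom
    have ev : ∀ g : GL (Fin 3) F, ((u g : GL (Fin 3) F) : Matrix (Fin 3) (Fin 3) F) = r g := fun g => rfl
    have evi : ∀ g : GL (Fin 3) F,
        (((u g)⁻¹ : GL (Fin 3) F) : Matrix (Fin 3) (Fin 3) F) = r ((g⁻¹ : GL (Fin 3) F) : Matrix (Fin 3) (Fin 3) F) :=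
      fun g => by rw [← map_inv, ev]
    have rd : ∀ N : Matrix (Fin 3) (Fin 3) F, (r N).det = N.det := fun N => Matrix.det_reindex_self e N
    refine ⟨u s, u z, by rw [ev, rd]; exact hs, by rw [ev, rd]; exact hz,
      by rw [ev, aeval_algHom_apply r, hP, map_zero], ?_⟩
    rcases hA' with h | h
    · left; rw [ev, ev, evi, evi, ← map_mul, ← map_mul, ← map_mul, ← h]; rfl
    · right
      rw [ev, ev, evi, show (r (s : Matrix (Fin 3) (Fin 3) F))ᵀ = r (s : Matrix (Fin 3) (Fin 3) F)ᵀ from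
        Matrix.transpose_submatrix _ _ _, ← map_mul, ← map_mul, ← map_mul, ← h]
      rfl
  let c : GL (Fin 3) F := GeneralLinearGroup.mkOfDetNeZero M hM
  have hB : B = (c : Matrix (Fin 3) (Fin 3) F) * A.reindex e e * ((c⁻¹ : GL (Fin 3) F) : Matrix (Fin 3) (Fin 3) F) := by
    show B = M * A.reindex e e * _
    rw [he, Matrix.mul_assoc]
    show B = B * ((c : Matrix (Fin 3) (Fin 3) F) * ((c⁻¹ : GL (Fin 3) F) : Matrix (Fin 3) (Fin 3) F))
    rw [← Units.val_mul, mul_inv_cancel, Units.val_one, Matrix.mul_one]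
  exact hB ▸ hr.conj c

end General

section Certificates

theorem cert_cyc00 : Fac2 (!![0, 0, 1; 1, 0, 0; 0, 1, 0] : Matrix (Fin 3) (Fin 3) 𝔽₂) :=
  fac2_inv ⟨!![0, 1, 1; 1, 1, 1; 1, 0, 1], !![1, 1, 0; 0, 1, 1; 1, 1, 1], by decide, by decide⟩ ⟨!![0, 0, 1; 0, 1, 0; 1, 1, 0], !![0, 1, 1; 0, 1, 0; 1, 0, 0], by decide, by decide⟩
    (by decide) (by decide) (by decide) (by decide)

theorem cert_cyc01 : Fac2 (!![0, 0, 1; 1, 0, 0; 0, 1, 1] : Matrix (Fin 3) (Fin 3) 𝔽₂) :=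
  fac2_inv ⟨!![0, 1, 0; 1, 0, 1; 1, 0, 0], !![0, 0, 1; 1, 0, 0; 0, 1, 1], by decide, by decide⟩ ⟨!![0, 0, 1; 1, 1, 0; 1, 0, 1], !![1, 0, 1; 1, 1, 1; 1, 0, 0], by decide, by decide⟩
    (by decide) (by decide) (by decide) (by decide)

theorem cert_cyc10 : Fac2 (!![0, 0, 1; 1, 0, 1; 0, 1, 0] : Matrix (Fin 3) (Fin 3) 𝔽₂) :=
  fac2_inv ⟨!![0, 1, 0; 0, 1, 1; 1, 0, 1], !![1, 1, 1; 1, 0, 0; 1, 1, 0], by decide, by decide⟩ ⟨!![0, 0, 1; 1, 1, 1; 1, 0, 1], !![1, 0, 1; 0, 1, 1; 1, 0, 0], by decide, by decide⟩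
    (by decide) (by decide) (by decide) (by decide)

theorem cert_cyc11 : Fac2 (!![0, 0, 1; 1, 0, 1; 0, 1, 1] : Matrix (Fin 3) (Fin 3) 𝔽₂) :=
  fac2_inv ⟨!![0, 1, 0; 0, 0, 1; 1, 1, 0], !![1, 0, 1; 1, 0, 0; 0, 1, 0], by decide, by decide⟩ ⟨!![0, 0, 1; 0, 1, 0; 1, 0, 0], !![0, 0, 1; 0, 1, 0; 1, 0, 0], by decide, by decide⟩
    (by decide) (by decide) (by decide) (by decide)

theorem cert_tv : Fac2 (!![0, 1, 0; 1, 0, 0; 0, 0, 1] : Matrix (Fin 3) (Fin 3) 𝔽₂) :=
  fac2_tr ⟨!![0, 0, 1; 0, 1, 1; 1, 1, 1], !![0, 1, 1; 1, 1, 0; 1, 0, 0], by decide, by decide⟩ ⟨!![0, 0, 1; 0, 1, 0; 1, 1, 0], !![0, 1, 1; 0, 1, 0; 1, 0, 0], by decide, by decide⟩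
    (by decide) (by decide) (by decide) (by decide)


theorem fac2_cyclic : ∀ c1 c2 : 𝔽₂, Fac2 (!![0, 0, 1; 1, 0, c1; 0, 1, c2] : Matrix (Fin 3) (Fin 3) 𝔽₂) := by
  intro c1 c2
  fin_cases c1 <;> fin_cases c2
  exacts [cert_cyc00, cert_cyc01, cert_cyc10, cert_cyc11]

end Certificates

theorem glSimE_of_eq {F : Type*} [Field F] {A B : Matrix (Fin 3) (Fin 3) F} (h : A = B) : GLSimE A B :=
  h ▸ GLSimE.refl A

/-- The factorisation over `ZMod 2`. -/
theorem fac2_zmod {A : Matrix (Fin 3) (Fin 3) 𝔽₂} (hd : A.det = 1) (hA : ∀ c : 𝔽₂, A ≠ c • 1) : Fac2 A := by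
  obtain ⟨d, m, a, x2, h, hann⟩ := exists_split_cyclic A
  have hc := h.card
  simp only [Fintype.card_fin, Fintype.card_sum] at hc
  obtain ⟨ed, hed⟩ := h
  have hdet : (comp a).det * x2.det = 1 := by
    rw [← det_fromBlocks_zero₂₁ (comp a) 0 x2, ← hed.det_eq, Matrix.det_reindex_self, hd]
  rcases d with _ | _ | _ | d
  · -- one block size: scalar
    exfalso
    have hx2 : x2 = a 0 • 1 := by
      have := hann
      rw [compPoly, show (Finset.univ : Finset (Fin (0 + 1))) = {0} from rfl, Finset.sum_singleton] at this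
      simp only [map_sub, map_mul, aeval_C, map_pow, aeval_X, pow_one, pow_zero,
        mul_one, zero_add, Fin.val_zero, Algebra.algebraMap_eq_smul_one] at this
      exact sub_eq_zero.1 this
    have hcomp : comp a = a 0 • (1 : Matrix (Fin 1) (Fin 1) 𝔽₂) := by
      ext i j
      fin_cases i; fin_cases j
      simp [PSLCover.comp]
    rw [hcomp, hx2] at hed
    obtain ⟨M, hM, he⟩ := hed
    refine hA (a 0) ?_
    have hu : IsUnit M := (Matrix.isUnit_iff_isUnit_det M).2 (isUnit_iff_ne_zero.2 hM)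
    have h1 : M * A.reindex ed ed = M * (a 0 • 1) := by
      rw [he, show fromBlocks (a 0 • (1 : Matrix (Fin (0 + 1)) (Fin (0 + 1)) 𝔽₂)) 0 0
          (a 0 • (1 : Matrix (Fin m) (Fin m) 𝔽₂)) = a 0 • 1 by rw [← fromBlocks_one, fromBlocks_smul, smul_zero, smul_zero],
        Matrix.smul_mul, Matrix.one_mul, Matrix.mul_smul, Matrix.mul_one]
    have h2 := hu.mul_left_cancel h1
    ext i j
    have := congrFun (congrFun h2 (ed i)) (ed j)
    simpa [Matrix.one_apply] using this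
  · -- a block of size two
    obtain rfl : m = 1 := by omega
    set e := x2 0 0
    have hx2 : x2 = e • 1 := by ext i j; fin_cases i; fin_cases j; simp [e]
    have hq : e * e - a 1 * e - a 0 = 0 := by
      have := congrFun (congrFun hann 0) 0
      simp only [compPoly, Fin.sum_univ_two, map_sub, map_add, map_mul, aeval_C, map_pow, aeval_X] at this
      rw [hx2] at this
      simp [pow_two, Algebra.algebraMap_eq_smul_one] at this
      linear_combination this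
    have hde : -(a 0) * e = 1 := by
      rw [hx2] at hdet
      simpa [Matrix.det_fin_two, PSLCover.comp, Fin.last] using hdet
    have cases : a 0 = 1 ∧ a 1 = 0 ∧ e = 1 := by
      revert hq hde
      generalize a 0 = p0
      generalize a 1 = p1
      generalize e = p2
      revert p0 p1 p2
      decide
    obtain ⟨h0, h1, he⟩ := cases
    refine Fac2.of_glSimE (GLSimE.trans ?_ (GLSimE.symm ⟨ed, hed⟩)) cert_tv
    refine GLSimE.trans ?_ (GLSimE.of_reindex finSumFinEquiv _).symm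
    apply glSimE_of_eq
    ext i j
    fin_cases i <;> fin_cases j <;>
      simp [finSumFinEquiv, Fin.addCases, PSLCover.comp, Fin.last, h0, h1, hx2, he]
  · -- a cyclic matrix
    obtain rfl : m = 0 := by omega
    have h0 : a 0 = 1 := by
      have : (comp a).det = 1 := by simpa using hdet
      simpa [Matrix.det_fin_three, PSLCover.comp, Fin.last] using this
    refine Fac2.of_glSimE (GLSimE.trans ?_ (GLSimE.symm ⟨ed, hed⟩)) (fac2_cyclic (a 1) (a 2))
    refine GLSimE.trans ?_ (GLSimE.of_reindex finSumFinEquiv _).symm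
    apply glSimE_of_eq
    ext i j
    fin_cases i <;> fin_cases j <;> simp [finSumFinEquiv, Fin.addCases, PSLCover.comp, Fin.last, h0]
  · omega

section Transport

open CfsgLib.ClassSquare CfsgLib.OreLevi.OrthMinus

variable {F : Type*} [Field F] [Finite F] {a b : F}

/-- The factorisation for the minus type reduction in rank three over two elements. -/
theorem facOK_two_three (hF : Nat.card F = 2) (A : Matrix (Fin 3) (Fin 3) F) (hd : A.det = 1) (hA : CfsgLib.ClassSquare.Nonscalar A) :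
    FacOK a b A := by
  classical
  haveI := Fintype.ofFinite F
  haveI : Fact (Nat.Prime 2) := ⟨Nat.prime_two⟩
  haveI : CharP F 2 := charP_of_card_eq_prime (by rw [← Nat.card_eq_fintype_card, hF])
  let φ : 𝔽₂ →+* F := ZMod.castHom (dvd_refl 2) F
  have hbij : Function.Bijective φ := by
    rw [Fintype.bijective_iff_injective_and_card, ← Nat.card_eq_fintype_card (α := F), hF, ZMod.card]
    exact ⟨φ.injective, rfl⟩
  obtain ⟨A0, rfl⟩ : ∃ A0 : Matrix (Fin 3) (Fin 3) 𝔽₂, A0.map φ = A :=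
    ⟨Matrix.of fun i j => (hbij.2 (A i j)).choose, by ext i j; exact (hbij.2 (A i j)).choose_spec⟩
  obtain ⟨s, z, hs, hz, hP, hA0⟩ := fac2_zmod (A := A0) (by
    apply φ.injective; rw [RingHom.map_det, map_one]; exact hd) (fun c e => hA (φ c) (by
      rw [e]; ext i j; simp [Matrix.one_apply, apply_ite φ]))
  set s' := Matrix.GeneralLinearGroup.map φ s
  set z' := Matrix.GeneralLinearGroup.map φ z
  have ev : ∀ g : GL (Fin 3) 𝔽₂, ((Matrix.GeneralLinearGroup.map φ g : GL (Fin 3) F) : Matrix (Fin 3) (Fin 3) F) =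
      φ.mapMatrix (g : Matrix (Fin 3) (Fin 3) 𝔽₂) := fun g => rfl
  have evi : ∀ g : GL (Fin 3) 𝔽₂, (((Matrix.GeneralLinearGroup.map φ g)⁻¹ : GL (Fin 3) F) : Matrix (Fin 3) (Fin 3) F) =
      φ.mapMatrix ((g⁻¹ : GL (Fin 3) 𝔽₂) : Matrix (Fin 3) (Fin 3) 𝔽₂) := fun g => by rw [← map_inv, ev]
  have hs' : IsSquare (s' : Matrix (Fin 3) (Fin 3) F).det := by rw [ev, ← RingHom.map_det]; exact hs.map φ
  have hz' : IsSquare (z' : Matrix (Fin 3) (Fin 3) F).det := by rw [ev, ← RingHom.map_det]; exact hz.map φ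
  have hP' : aeval (s' : Matrix (Fin 3) (Fin 3) F) (X ^ 3 - X - 1 : F[X]) = 0 := by
    simp only [map_sub, map_pow, aeval_X, map_one] at hP ⊢
    rw [show (s' : Matrix (Fin 3) (Fin 3) F) = φ.mapMatrix (s : Matrix (Fin 3) (Fin 3) 𝔽₂) from ev s, ← map_pow,
      ← map_one φ.mapMatrix, ← map_sub, ← map_sub, hP, map_zero]
  have hg : CfsgLib.SpComm.Good (X ^ 3 - X - 1 : F[X]) := by
    have hr : (X ^ 3 - X - 1 : F[X]).reverse = 1 - X ^ 2 - X ^ 3 := by
      have hdg : (X ^ 3 - X - 1 : F[X]).natDegree = 3 := by compute_degree!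
      rw [Polynomial.reverse, hdg,
        show (X ^ 3 - X - 1 : F[X]) = C 1 * X ^ 3 - C 1 * X ^ 1 - C 1 * X ^ 0 by simp,
        reflect_sub, reflect_sub, reflect_C_mul_X_pow, reflect_C_mul_X_pow, reflect_C_mul_X_pow, revAt_le le_rfl,
        revAt_le (by norm_num), revAt_le (by norm_num)]
      simp
    exact ⟨-X, 1 - X, by rw [hr]; ring⟩
  have htw := CfsgLib.OreLevi.OrthPlus.twistFree_of_good hg hP'
  have hfix : ∀ l : Matrix (Fin 2) (Fin 3) F, ((1 : Matrix (Fin 2) (Fin 2) F) * l = l * (s' : Matrix (Fin 3) (Fin 3) F) ∨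
      (1 : Matrix (Fin 2) (Fin 2) F) * l * (s' : Matrix (Fin 3) (Fin 3) F)ᵀ = l) → l = 0 :=
    fun l e => CfsgLib.OreLevi.OrthPlus.no_fix_both hg hP' (by rwa [Matrix.one_mul] at e)
  rcases hA0 with h | h
  · left
    refine ⟨s', z', ?_, hs', hz', htw, 1, WComm.one, hfix⟩
    rw [ev, ev, evi, evi, ← map_mul, ← map_mul, ← map_mul, ← h]; rfl
  · right
    refine ⟨⟨1, rfl⟩, s', z', ?_, hs', hz', fun X hX e => htw X hX (Or.inl e), fun l e => hfix l (Or.inl e)⟩
    rw [ev, ev, evi, show (φ.mapMatrix (s : Matrix (Fin 3) (Fin 3) 𝔽₂))ᵀ = φ.mapMatrix (s : Matrix (Fin 3) (Fin 3) 𝔽₂)ᵀ from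
      (Matrix.transpose_map).symm, ← map_mul, ← map_mul, ← map_mul, ← h]
    rfl

end Transport

end CfsgLib.OreSmallTwo
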